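import Cfsg.Agent.H704.LowDegree
import Cfsg.Agent.H704.Hooks

/-!
# Degrees of the symmetric groups of level at least 3 and 4 (helper48)

* `level_three` : for `13 ≤ n` a degree `d` of `S_n` is `1`, `n - 1`, `n (n - 3) / 2`, `(n - 1) (n - 2) / 2`, or at least
  `n (n - 1) (n - 5) / 6`;
* `level_four` : one more level.
-/

set_option autoImplicit false
set_option linter.unusedSectionVars false

namespace Cfsg.Agent.H48.DS

open Cfsg.Agent.H704 Finset

/-- all partitions of `n` with at least `k` boxes outside the first row and at least `k` boxes outside the first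
column have degree at least `B / c` -/
def LV (c k n B : ℕ) : Prop := ∀ (l : List ℕ) (d : ℕ), Dec l → l.sum = n → d * hookProd l = n.factorial →
  l.headD 0 + k ≤ n → colLen l 0 + k ≤ n → B ≤ c * d

theorem LV.mul {c k n B : ℕ} (h : LV c k n B) (m : ℕ) : LV (m * c) k n (m * B) := by
  intro l d h1 h2 h3 h4 h5
  have h6 := h l d h1 h2 h3 h4 h5
  calc m * B ≤ m * (c * d) := Nat.mul_le_mul_left m h6
    _ = m * c * d := by ring

theorem head_add_col {l : List ℕ} (hl : Dec l) (h : 0 < l.headD 0) : l.headD 0 + colLen l 0 ≤ l.sum + 1 := by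
  obtain ⟨a, ha⟩ : ∃ a, l.headD 0 = a + 1 := ⟨l.headD 0 - 1, by omega⟩
  have h1 := sum_eq_sum_colLen hl
  rw [ha, sum_range_succ'] at h1
  have h2 : ∑ j ∈ range a, 1 ≤ ∑ j ∈ range a, colLen l (j + 1) := by
    apply sum_le_sum
    intro j hj
    rw [mem_range] at hj
    have : 0 < colLen l (j + 1) := by rw [lt_colLen_iff hl, ← headD_eq_getD]; omega
    omega
  rw [sum_const, card_range, smul_eq_mul, mul_one] at h2
  omega

theorem lv_head {c k n B0 B1 : ℕ} (hk : 2 ≤ k) (hn : 2 * k + 3 ≤ n) (ih0 : LV c (k - 1) n B0) (ih1 : LV c k n B1)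
    {l : List ℕ} {d : ℕ} (hl : Dec l) (hs : l.sum = n + 1)
    (hd : d * hookProd l = (n + 1).factorial) (hh : l.headD 0 + k = n + 1) : B1 + B0 ≤ c * d := by
  obtain ⟨h1, h2, h3⟩ := sum_facts hl (by omega)
  have hc := head_add_col hl h3
  have hc0 : l.getD (0 + 1) 0 < l.getD 0 0 := by
    rw [← headD_eq_getD, zero_add]; omega
  have hc1 := corner_last hl (by omega)
  have hlen0 : 0 < l.length := lt_length_of_getD hc0
  obtain ⟨d1, -, hd1⟩ := exists_deg (dec_rm hl hc0) (n := n) (by have := sum_rm hc0; omega)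
  obtain ⟨d2, hp2, hd2⟩ := exists_deg (dec_rm hl hc1) (n := n) (by have := sum_rm hc1; omega)
  have h4 := branch_two hl hs (i := 0) (k := colLen l 0 - 1) (by omega) hc0 hc1 hd hd1 hd2
  have h5 := ih1 (rm l 0) d1 (dec_rm hl hc0) (by have := sum_rm hc0; omega) hd1
    (by rw [headD_rm_zero hlen0]; omega) (by have := colLen_rm_le hl hc0 0; omega)
  have h6 := ih0 (rm l (colLen l 0 - 1)) d2 (dec_rm hl hc1) (by have := sum_rm hc1; omega) hd2
    (by rw [headD_rm_pos (lt_length_of_getD hc1) (by omega)]; omega) (by have := colLen_rm_le hl hc1 0; omega)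
  calc B1 + B0 ≤ c * d1 + c * d2 := by omega
    _ = c * (d1 + d2) := by ring
    _ ≤ c * d := Nat.mul_le_mul_left c (by omega)

theorem lv_step {c k n B0 B1 B2 B3 : ℕ} (hk : 2 ≤ k) (hn : 2 * k + 3 ≤ n) (ih0 : LV c (k - 1) n B0)
    (ih1 : LV c k n B1) (ih2 : LV c k (n - 1) B2) (h01 : B3 ≤ B1 + B0) (h11 : B3 ≤ 2 * B1) (h22 : B3 ≤ 2 * B2) :
    LV c k (n + 1) B3 := by
  intro l d hl hs hd hh hc
  have hpos : 0 < l.headD 0 := by
    by_contra hne
    have h1 := sum_eq_sum_colLen hl
    rw [show l.headD 0 = 0 by omega, sum_range_zero] at h1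
    omega
  by_cases hA : l.headD 0 + k = n + 1
  · exact h01.trans (lv_head hk hn ih0 ih1 hl hs hd hA)
  by_cases hB : colLen l 0 + k = n + 1
  · -- transpose
    have h0 : (transpose l).headD 0 = colLen l 0 := by
      rw [headD_eq_getD, getD_transpose hl]
    exact h01.trans (lv_head hk hn ih0 ih1 (pairwise_transpose l) (by rw [sum_transpose hl, hs])
      (by rw [hookProd_transpose' hl, hd]) (by rw [h0, hB]))
  · have hcpos : 0 < colLen l 0 := by
      rw [← getD_pos_iff hl, ← headD_eq_getD]; exact hpos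
    have hc1 := corner_last hl hcpos
    have hc2 := corner_first hl hpos
    by_cases hne : colLen l (l.headD 0 - 1) - 1 = colLen l 0 - 1
    · -- a rectangle
      have h0 : 0 < colLen l (l.headD 0 - 1) := by
        rw [lt_colLen_iff hl, ← headD_eq_getD]; omega
      have hprod : l.headD 0 * colLen l 0 = n + 1 := by
        rw [← hs, sum_eq_sum_colLen hl]
        rw [← smul_eq_mul, ← card_range (l.headD 0), ← sum_const]
        rw [card_range]
        apply sum_congr rfl
        intro j hj
        rw [mem_range] at hj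
        have h1 := colLen_anti l (Nat.zero_le j)
        have h2 := colLen_anti l (show j ≤ l.headD 0 - 1 by omega)
        omega
      obtain ⟨a, ha⟩ : ∃ a, a = l.headD 0 := ⟨_, rfl⟩
      obtain ⟨k', hk'⟩ : ∃ k, k = colLen l 0 := ⟨_, rfl⟩
      rw [← ha, ← hk'] at hprod
      have ha2 : 2 ≤ a := by
        by_contra h
        have : a = 1 := by omega
        rw [this, one_mul] at hprod
        omega
      have hk2 : 2 ≤ k' := by
        by_contra h
        have : k' = 1 := by omega
        rw [this, mul_one] at hprod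
        omega
      have ha3 : a + k ≤ n - 1 := by
        have : a * 2 ≤ a * k' := Nat.mul_le_mul_left a hk2
        omega
      have hk3 : k' + k ≤ n - 1 := by
        have : 2 * k' ≤ a * k' := Nat.mul_le_mul_right k' ha2
        omega
      rw [← hk'] at hc1
      -- remove the corner
      obtain ⟨d1, -, hd1⟩ := exists_deg (dec_rm hl hc1) (n := n) (by have := sum_rm hc1; omega)
      have h4 := branch_one hl hs hc1 hd hd1
      have hl1 := dec_rm hl hc1
      have hs1 : (rm l (k' - 1)).sum = (n - 1) + 1 := by have := sum_rm hc1; omega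
      have hlen := lt_length_of_getD hc1
      have e1 : l.getD (k' - 1) 0 = a := by
        have h5 := (lt_colLen_iff hl (k' - 1) (a - 1)).1 (by rw [ha]; omega)
        have h6 := getD_le_headD hl (k' - 1)
        omega
      have e2 : l.getD (k' - 2) 0 = a := by
        have h5 := (lt_colLen_iff hl (k' - 2) (a - 1)).1 (by rw [ha]; omega)
        have h6 := getD_le_headD hl (k' - 2)
        omega
      have e3 : l.getD k' 0 = 0 := by
        have : ¬ 0 < l.getD k' 0 := by rw [getD_pos_iff hl]; omega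
        omega
      have hc3 : (rm l (k' - 1)).getD ((k' - 2) + 1) 0 < (rm l (k' - 1)).getD (k' - 2) 0 := by
        rw [getD_rm hlen, getD_rm hlen, if_pos (by omega), if_neg (by omega), e1, e2]
        omega
      have hc4 : (rm l (k' - 1)).getD ((k' - 1) + 1) 0 < (rm l (k' - 1)).getD (k' - 1) 0 := by
        rw [getD_rm hlen, getD_rm hlen, if_neg (by omega), if_pos rfl, e1, show k' - 1 + 1 = k' by omega, e3]
        omega
      obtain ⟨d2, -, hd2⟩ := exists_deg (dec_rm hl1 hc3) (n := n - 1) (by have := sum_rm hc3; omega)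
      obtain ⟨d3, -, hd3⟩ := exists_deg (dec_rm hl1 hc4) (n := n - 1) (by have := sum_rm hc4; omega)
      have h5 := branch_two hl1 hs1 (i := k' - 2) (k := k' - 1) (by omega) hc3 hc4
        (by rw [hd1, show n - 1 + 1 = n by omega]) hd2 hd3
      have hhr : (rm l (k' - 1)).headD 0 ≤ a := by rw [ha]; exact headD_rm_le hlen
      have hcr : colLen (rm l (k' - 1)) 0 ≤ k' := by rw [hk']; rw [← hk']; exact (colLen_rm_le hl hc1 0).trans hk'.ge
      have g1 := headD_rm_le (lt_length_of_getD hc3)
      have g2 := headD_rm_le (lt_length_of_getD hc4)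
      have g3 := colLen_rm_le hl1 hc3 0
      have g4 := colLen_rm_le hl1 hc4 0
      have h6 := ih2 _ d2 (dec_rm hl1 hc3) (by have := sum_rm hc3; omega) hd2 (by omega) (by omega)
      have h7 := ih2 _ d3 (dec_rm hl1 hc4) (by have := sum_rm hc4; omega) hd3 (by omega) (by omega)
      calc B3 ≤ B2 + B2 := by omega
        _ ≤ c * d2 + c * d3 := by omega
        _ = c * (d2 + d3) := by ring
        _ ≤ c * d := Nat.mul_le_mul_left c (by omega)
    · -- two corners
      obtain ⟨d1, -, hd1⟩ := exists_deg (dec_rm hl hc1) (n := n) (by have := sum_rm hc1; omega)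
      obtain ⟨d2, -, hd2⟩ := exists_deg (dec_rm hl hc2) (n := n) (by have := sum_rm hc2; omega)
      have h4 := branch_two hl hs (Ne.symm hne) hc1 hc2 hd hd1 hd2
      have g1 := headD_rm_le (lt_length_of_getD hc1)
      have g2 := headD_rm_le (lt_length_of_getD hc2)
      have g3 := colLen_rm_le hl hc1 0
      have g4 := colLen_rm_le hl hc2 0
      have h5 := ih1 _ d1 (dec_rm hl hc1) (by have := sum_rm hc1; omega) hd1 (by omega) (by omega)
      have h6 := ih1 _ d2 (dec_rm hl hc2) (by have := sum_rm hc2; omega) hd2 (by omega) (by omega)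
      calc B3 ≤ B1 + B1 := by omega
        _ ≤ c * d1 + c * d2 := by omega
        _ = c * (d1 + d2) := by ring
        _ ≤ c * d := Nat.mul_le_mul_left c (by omega)

/-! ### levels 3 and 4 -/

theorem lv_two {n : ℕ} (hn : 9 ≤ n) : LV 2 2 n (n * (n - 3)) := by
  intro l d hl hs hd h1 h2
  exact ld_all hn l d hl hs hd (by omega) (by omega)

/-- base cases from the enumeration -/
theorem lv_of_chk {c k n B : ℕ} (hc : go (fun l H => Nat.ble (n + 1) (l.headD 0 + k) || Nat.ble (n + 1) (l.length + k) ||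
    Nat.ble (B * H) (c * n.factorial)) (n + 1) n 1 [] 1 = true) : LV c k n B := by
  intro l d hl hs hd h1 h2
  have h3 := check_of_isPart hc (isPart_filter hl hs)
  rw [headD_filter_pos hl, length_filter_pos, hookProd_filter hl, Bool.or_eq_true, Bool.or_eq_true] at h3
  rcases h3 with (h3 | h3) | h3
  · have := Nat.le_of_ble_eq_true h3; omega
  · have := Nat.le_of_ble_eq_true h3; omega
  · have h4 := Nat.le_of_ble_eq_true h3
    rw [← hd, ← mul_assoc] at h4
    exact Nat.le_of_mul_le_mul_right h4 (hookProd_pos hl)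

theorem lv_three_13 : LV 6 3 13 (13 * 12 * 8) := lv_of_chk (by decide +kernel)

theorem lv_three_14 : LV 6 3 14 (14 * 13 * 9) := lv_of_chk (by decide +kernel)

theorem lv_four_15 : LV 24 4 15 (15 * 14 * 13 * 8) := lv_of_chk (by decide +kernel)

theorem lv_four_16 : LV 24 4 16 (16 * 15 * 14 * 9) := lv_of_chk (by decide +kernel)

theorem lv_three {n : ℕ} (hn : 13 ≤ n) : LV 6 3 n (n * (n - 1) * (n - 5)) := by
  have h : LV 6 3 n (n * (n - 1) * (n - 5)) ∧ LV 6 3 (n + 1) ((n + 1) * n * (n - 4)) := by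
    induction n, hn using Nat.le_induction with
    | base => exact ⟨lv_three_13, lv_three_14⟩
    | succ n hn ih =>
      obtain ⟨m, rfl⟩ := Nat.exists_eq_add_of_le hn
      have e1 : 13 + m + 1 - 1 = 13 + m := by omega
      have e2 : 13 + m + 1 - 5 = 9 + m := by omega
      have e3 : 13 + m + 1 - 4 = 10 + m := by omega
      have e4 : 13 + m - 1 = 12 + m := by omega
      have e5 : 13 + m - 5 = 8 + m := by omega
      have e6 : 13 + m - 4 = 9 + m := by omega
      have e7 : 13 + m + 1 - 3 = 11 + m := by omega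
      rw [e4, e5, e6] at ih
      rw [e1, e2, e3]
      refine ⟨ih.2, ?_⟩
      have h0 := (lv_two (n := 13 + m + 1) (by omega)).mul 3
      rw [e7] at h0
      refine lv_step (k := 3) (n := 13 + m + 1) (by norm_num) (by omega) h0 ih.2 (by rw [e1]; exact ih.1) ?_ ?_ ?_
      · ring_nf; omega
      · nlinarith [sq_nonneg m]
      · have h7 : (13 + m + 1 + 1) * (13 + m + 1) * (10 + m) = m ^ 3 + 39 * m ^ 2 + 500 * m + 2100 := by ring
        have h8 : 2 * ((13 + m) * (12 + m) * (8 + m)) = 2 * m ^ 3 + 66 * m ^ 2 + 712 * m + 2496 := by ring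
        rw [h7, h8]
        omega
  exact h.1

theorem lv_four {n : ℕ} (hn : 15 ≤ n) : LV 24 4 n (n * (n - 1) * (n - 2) * (n - 7)) := by
  have h : LV 24 4 n (n * (n - 1) * (n - 2) * (n - 7)) ∧ LV 24 4 (n + 1) ((n + 1) * n * (n - 1) * (n - 6)) := by
    induction n, hn using Nat.le_induction with
    | base => exact ⟨lv_four_15, lv_four_16⟩
    | succ n hn ih =>
      obtain ⟨m, rfl⟩ := Nat.exists_eq_add_of_le hn
      have e1 : 15 + m + 1 - 1 = 15 + m := by omega
      have e2 : 15 + m + 1 - 2 = 14 + m := by omega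
      have e3 : 15 + m + 1 - 7 = 9 + m := by omega
      have e4 : 15 + m + 1 - 6 = 10 + m := by omega
      have e5 : 15 + m - 1 = 14 + m := by omega
      have e6 : 15 + m - 2 = 13 + m := by omega
      have e7 : 15 + m - 7 = 8 + m := by omega
      have e8 : 15 + m - 6 = 9 + m := by omega
      have e9 : 15 + m + 1 - 5 = 11 + m := by omega
      rw [e5, e6, e7, e8] at ih
      rw [e1, e2, e3, e4]
      refine ⟨ih.2, ?_⟩
      have h0 := (lv_three (n := 15 + m + 1) (by omega)).mul 4
      rw [e1, e9] at h0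
      refine lv_step (k := 4) (n := 15 + m + 1) (by norm_num) (by omega) h0 ih.2 (by rw [e1]; exact ih.1) ?_ ?_ ?_
      · ring_nf; omega
      · have h7 : (15 + m + 1 + 1) * (15 + m + 1) * (15 + m) * (10 + m) =
            m ^ 4 + 58 * m ^ 3 + 1247 * m ^ 2 + 11750 * m + 40800 := by ring
        have h8 : 2 * ((15 + m + 1) * (15 + m) * (14 + m) * (9 + m)) =
            2 * m ^ 4 + 108 * m ^ 3 + 2158 * m ^ 2 + 18852 * m + 60480 := by ring
        rw [h7, h8]
        nlinarith [sq_nonneg m]
      · have h7 : (15 + m + 1 + 1) * (15 + m + 1) * (15 + m) * (10 + m) =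
            m ^ 4 + 58 * m ^ 3 + 1247 * m ^ 2 + 11750 * m + 40800 := by ring
        have h8 : 2 * ((15 + m) * (14 + m) * (13 + m) * (8 + m)) =
            2 * m ^ 4 + 100 * m ^ 3 + 1846 * m ^ 2 + 14852 * m + 43680 := by ring
        rw [h7, h8]
        nlinarith [sq_nonneg m]
  exact h.1

/-! ### the degrees of level at most 3 -/

/-- partitions of `2` and `3` -/
theorem small_parts {t : List ℕ} (hs : t.Pairwise (· ≥ ·)) (hp : ∀ a ∈ t, 0 < a) (h : t.sum ≤ 3) :
    t = [] ∨ t = [1] ∨ t = [2] ∨ t = [1, 1] ∨ t = [3] ∨ t = [2, 1] ∨ t = [1, 1, 1] := by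
  rcases t with _ | ⟨a, _ | ⟨b, _ | ⟨c, _ | ⟨e, t⟩⟩⟩⟩
  · simp
  · have h1 := hp a (by simp)
    rw [List.sum_cons, List.sum_nil] at h
    have h2 : a = 1 ∨ a = 2 ∨ a = 3 := by omega
    rcases h2 with rfl | rfl | rfl <;> simp
  · have h1 := hp a (by simp)
    have h2 := hp b (by simp)
    have h3 : b ≤ a := List.rel_of_pairwise_cons hs (by simp)
    rw [List.sum_cons, List.sum_cons, List.sum_nil] at h
    have h4 : (a = 1 ∧ b = 1) ∨ (a = 2 ∧ b = 1) := by omega
    rcases h4 with ⟨rfl, rfl⟩ | ⟨rfl, rfl⟩ <;> simp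
  · have h1 := hp a (by simp)
    have h2 := hp b (by simp)
    have h3 := hp c (by simp)
    rw [List.sum_cons, List.sum_cons, List.sum_cons, List.sum_nil] at h
    have h4 : a = 1 ∧ b = 1 ∧ c = 1 := by omega
    obtain ⟨rfl, rfl, rfl⟩ := h4
    simp
  · have h1 := hp a (by simp)
    have h2 := hp b (by simp)
    have h3 := hp c (by simp)
    have h4 := hp e (by simp)
    rw [List.sum_cons, List.sum_cons, List.sum_cons, List.sum_cons] at h
    omega

theorem df3 (m : ℕ) : (m + 3).descFactorial 3 = (m + 3) * (m + 2) * (m + 1) := by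
  simp [Nat.descFactorial]; ring

theorem df4 (m : ℕ) : (m + 4).descFactorial 4 = (m + 4) * (m + 3) * (m + 2) * (m + 1) := by
  simp [Nat.descFactorial]; ring

theorem df5 (m : ℕ) : (m + 5).descFactorial 5 = (m + 5) * (m + 4) * (m + 3) * (m + 2) * (m + 1) := by
  simp [Nat.descFactorial]; ring

theorem df6 (m : ℕ) : (m + 6).descFactorial 6 = (m + 6) * (m + 5) * (m + 4) * (m + 3) * (m + 2) * (m + 1) := by
  simp [Nat.descFactorial]; ring

/-- the degrees of level at most 3 -/
theorem low_three {n d : ℕ} {l : List ℕ} (hn : 9 ≤ n) (hl : IsPart l n) (hd : d * hookProd l = n.factorial)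
    (hh : n ≤ l.headD 0 + 3) : d = 1 ∨ d = n - 1 ∨ 2 * d = n * (n - 3) ∨ 2 * d = (n - 1) * (n - 2) ∨
      (n = l.headD 0 + 3 ∧ (6 * d = n * (n - 1) * (n - 5) ∨ 3 * d = n * (n - 2) * (n - 4) ∨
        6 * d = (n - 1) * (n - 2) * (n - 3))) := by
  cases l with
  | nil => rw [List.headD_nil] at hh; omega
  | cons a t =>
    rw [List.headD_cons] at hh ⊢
    have hsum : a + t.sum = n := by have := hl.sum; rwa [List.sum_cons] at this
    have hpt : ∀ c ∈ t, 0 < c := fun c hc => hl.pos c (List.mem_cons_of_mem _ hc)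
    by_cases h1 : n - 1 ≤ a
    · rcases low_part hn hl hd (by rw [List.headD_cons]; exact h1) with h | h
      · exact Or.inl h
      · exact Or.inr (Or.inl h)
    rcases small_parts hl.sorted.of_cons hpt (by omega) with rfl | rfl | rfl | rfl | rfl | rfl | rfl
    · simp at hsum; omega
    · simp at hsum; omega
    · -- (n - 2, 2)
      have hf : 1 * hookProd [2] = ([2] : List ℕ).sum.factorial := by decide
      have h2 := deg_mul_desc hl hd hf
      have e0 : colLen [2] 0 = 1 := by decide
      have e1 : colLen [2] 1 = 1 := by decide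
      have h3 : n = a + 2 := by simp at hsum; omega
      obtain ⟨m, rfl⟩ : ∃ m, a = m + 2 := ⟨a - 2, by omega⟩
      subst h3
      rw [show ([2] : List ℕ).headD 0 = 2 from rfl, show ([2] : List ℕ).sum = 2 from rfl,
        show m + 2 + 2 = m + 4 from rfl, df4, prod_range_succ, prod_range_succ, prod_range_zero, e0, e1,
        show Nat.factorial 2 = 2 from rfl, Nat.sub_zero, show m + 2 - 1 = m + 1 by omega] at h2
      rw [show m + 2 + 2 - 3 = m + 1 by omega, show m + 2 + 2 - 1 = m + 3 by omega, show m + 2 + 2 - 2 = m + 2 by omega]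
      right; right; left
      have h4 : 0 < (m + 3) * (m + 2) := by positivity
      apply Nat.eq_of_mul_eq_mul_right h4
      linarith
    · -- (n - 2, 1, 1)
      have hf : 1 * hookProd [1, 1] = ([1, 1] : List ℕ).sum.factorial := by decide
      have h2 := deg_mul_desc hl hd hf
      have e0 : colLen [1, 1] 0 = 2 := by decide
      have h3 : n = a + 2 := by simp at hsum; omega
      obtain ⟨m, rfl⟩ : ∃ m, a = m + 1 := ⟨a - 1, by omega⟩
      subst h3
      rw [show ([1, 1] : List ℕ).headD 0 = 1 from rfl, show ([1, 1] : List ℕ).sum = 2 from rfl,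
        show m + 1 + 2 = m + 3 from rfl, df3, prod_range_succ, prod_range_zero, e0,
        show Nat.factorial 2 = 2 from rfl, Nat.sub_zero] at h2
      rw [show m + 1 + 2 - 3 = m by omega, show m + 1 + 2 - 1 = m + 2 by omega, show m + 1 + 2 - 2 = m + 1 by omega]
      right; right; right; left
      have h4 : 0 < m + 3 := by positivity
      apply Nat.eq_of_mul_eq_mul_right h4
      linarith
    · -- (n - 3, 3)
      have hf : 1 * hookProd [3] = ([3] : List ℕ).sum.factorial := by decide
      have h2 := deg_mul_desc hl hd hf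
      have e0 : colLen [3] 0 = 1 := by decide
      have e1 : colLen [3] 1 = 1 := by decide
      have e2 : colLen [3] 2 = 1 := by decide
      have h3 : n = a + 3 := by simp at hsum; omega
      obtain ⟨m, rfl⟩ : ∃ m, a = m + 3 := ⟨a - 3, by omega⟩
      subst h3
      rw [show ([3] : List ℕ).headD 0 = 3 from rfl, show ([3] : List ℕ).sum = 3 from rfl,
        show m + 3 + 3 = m + 6 from rfl, df6, prod_range_succ, prod_range_succ, prod_range_succ, prod_range_zero,
        e0, e1, e2, show Nat.factorial 3 = 6 from rfl, Nat.sub_zero, show m + 3 - 1 = m + 2 by omega,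
        show m + 3 - 2 = m + 1 by omega] at h2
      rw [show m + 3 + 3 - 5 = m + 1 by omega, show m + 3 + 3 - 1 = m + 5 by omega]
      right; right; right; right
      refine ⟨rfl, Or.inl ?_⟩
      have h4 : 0 < (m + 4) * (m + 3) * (m + 2) := by positivity
      apply Nat.eq_of_mul_eq_mul_right h4
      linarith
    · -- (n - 3, 2, 1)
      have hf : 2 * hookProd [2, 1] = ([2, 1] : List ℕ).sum.factorial := by decide
      have h2 := deg_mul_desc hl hd hf
      have e0 : colLen [2, 1] 0 = 2 := by decide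
      have e1 : colLen [2, 1] 1 = 1 := by decide
      have h3 : n = a + 3 := by simp at hsum; omega
      obtain ⟨m, rfl⟩ : ∃ m, a = m + 2 := ⟨a - 2, by omega⟩
      subst h3
      rw [show ([2, 1] : List ℕ).headD 0 = 2 from rfl, show ([2, 1] : List ℕ).sum = 3 from rfl,
        show m + 2 + 3 = m + 5 from rfl, df5, prod_range_succ, prod_range_succ, prod_range_zero,
        e0, e1, show Nat.factorial 3 = 6 from rfl, Nat.sub_zero, show m + 2 - 1 = m + 1 by omega] at h2
      rw [show m + 2 + 3 - 5 = m by omega, show m + 2 + 3 - 1 = m + 4 by omega, show m + 2 + 3 - 2 = m + 3 by omega,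
        show m + 2 + 3 - 4 = m + 1 by omega]
      right; right; right; right
      refine ⟨rfl, Or.inr (Or.inl ?_)⟩
      have h4 : 0 < 2 * ((m + 4) * (m + 2)) := by positivity
      apply Nat.eq_of_mul_eq_mul_right h4
      linarith
    · -- (n - 3, 1, 1, 1)
      have hf : 1 * hookProd [1, 1, 1] = ([1, 1, 1] : List ℕ).sum.factorial := by decide
      have h2 := deg_mul_desc hl hd hf
      have e0 : colLen [1, 1, 1] 0 = 3 := by decide
      have h3 : n = a + 3 := by simp at hsum; omega
      obtain ⟨m, rfl⟩ : ∃ m, a = m + 1 := ⟨a - 1, by omega⟩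
      subst h3
      rw [show ([1, 1, 1] : List ℕ).headD 0 = 1 from rfl, show ([1, 1, 1] : List ℕ).sum = 3 from rfl,
        show m + 1 + 3 = m + 4 from rfl, df4, prod_range_succ, prod_range_zero,
        e0, show Nat.factorial 3 = 6 from rfl, Nat.sub_zero] at h2
      rw [show m + 1 + 3 - 1 = m + 3 by omega, show m + 1 + 3 - 2 = m + 2 by omega,
        show m + 1 + 3 - 3 = m + 1 by omega]
      right; right; right; right
      refine ⟨rfl, Or.inr (Or.inr ?_)⟩
      have h4 : 0 < m + 4 := by positivity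
      apply Nat.eq_of_mul_eq_mul_right h4
      linarith

theorem six_le {m a : ℕ} (h1 : 6 * a = m * (m - 1) * (m - 5) ∨ 3 * a = m * (m - 2) * (m - 4) ∨
    6 * a = (m - 1) * (m - 2) * (m - 3)) (hm : 9 ≤ m) : m * (m - 1) * (m - 5) ≤ 6 * a := by
  obtain ⟨k, rfl⟩ := Nat.exists_eq_add_of_le hm
  rw [show 9 + k - 1 = 8 + k by omega, show 9 + k - 5 = 4 + k by omega, show 9 + k - 2 = 7 + k by omega,
    show 9 + k - 3 = 6 + k by omega, show 9 + k - 4 = 5 + k by omega] at *
  rcases h1 with h | h | h
  · rw [h]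
  · nlinarith
  · nlinarith

/-- **Level 3.** -/
theorem level_three {n d : ℕ} (hn : 13 ≤ n) (h : IsDeg n d) : d = 1 ∨ d = n - 1 ∨ 2 * d = n * (n - 3) ∨
    2 * d = (n - 1) * (n - 2) ∨ n * (n - 1) * (n - 5) ≤ 6 * d := by
  have key : ∀ l : List ℕ, IsPart l n → d * hookProd l = n.factorial → n ≤ l.headD 0 + 3 →
      d = 1 ∨ d = n - 1 ∨ 2 * d = n * (n - 3) ∨
      2 * d = (n - 1) * (n - 2) ∨ n * (n - 1) * (n - 5) ≤ 6 * d := by
    intro l hl hd hh
    rcases low_three (by omega) hl hd hh with h | h | h | h | ⟨-, h⟩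
    · exact Or.inl h
    · exact Or.inr (Or.inl h)
    · exact Or.inr (Or.inr (Or.inl h))
    · exact Or.inr (Or.inr (Or.inr (Or.inl h)))
    · exact Or.inr (Or.inr (Or.inr (Or.inr (six_le h (by omega)))))
  obtain ⟨l, hl, hd⟩ := h
  by_cases h1 : l.headD 0 + 3 ≤ n
  · by_cases h2 : colLen l 0 + 3 ≤ n
    · exact Or.inr (Or.inr (Or.inr (Or.inr (lv_three hn l d hl.sorted hl.sum hd h1 h2))))
    · have h3 : (transpose l).headD 0 = colLen l 0 := by rw [headD_eq_getD, getD_transpose hl.sorted]
      exact key _ (isPart_transpose hl) (by rw [hookProd_transpose hl, hd]) (by rw [h3]; omega)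
  · exact key _ hl hd (by omega)

/-- **Level 4.** -/
theorem level_four {n d : ℕ} (hn : 15 ≤ n) (h : IsDeg n d) : d = 1 ∨ d = n - 1 ∨ 2 * d = n * (n - 3) ∨
    2 * d = (n - 1) * (n - 2) ∨ 6 * d = n * (n - 1) * (n - 5) ∨ 3 * d = n * (n - 2) * (n - 4) ∨
    6 * d = (n - 1) * (n - 2) * (n - 3) ∨ n * (n - 1) * (n - 2) * (n - 7) ≤ 24 * d := by
  have key : ∀ l : List ℕ, IsPart l n → d * hookProd l = n.factorial → n ≤ l.headD 0 + 3 →
      d = 1 ∨ d = n - 1 ∨ 2 * d = n * (n - 3) ∨
      2 * d = (n - 1) * (n - 2) ∨ 6 * d = n * (n - 1) * (n - 5) ∨ 3 * d = n * (n - 2) * (n - 4) ∨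
      6 * d = (n - 1) * (n - 2) * (n - 3) ∨ n * (n - 1) * (n - 2) * (n - 7) ≤ 24 * d := by
    intro l hl hd hh
    rcases low_three (by omega) hl hd hh with h | h | h | h | ⟨-, h⟩
    · exact Or.inl h
    · exact Or.inr (Or.inl h)
    · exact Or.inr (Or.inr (Or.inl h))
    · exact Or.inr (Or.inr (Or.inr (Or.inl h)))
    · tauto
  obtain ⟨l, hl, hd⟩ := h
  by_cases h1 : l.headD 0 + 4 ≤ n
  · by_cases h2 : colLen l 0 + 4 ≤ n
    · have := lv_four hn l d hl.sorted hl.sum hd h1 h2
      tauto
    · have h3 : (transpose l).headD 0 = colLen l 0 := by rw [headD_eq_getD, getD_transpose hl.sorted]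
      exact key _ (isPart_transpose hl) (by rw [hookProd_transpose hl, hd]) (by rw [h3]; omega)
  · exact key _ hl hd (by omega)

end Cfsg.Agent.H48.DS
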