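import Cfsg.Agent.H704.DS.Base
import Cfsg.Agent.H48.DS.Lev
import Cfsg.Agent.H816.IMM
import Cfsg.Agent.H995.IMBRow
import Cfsg.Agent.H642.MonoB

/-!
# S4906, rows `B` and `M` (helper48)

* `row_m` : the degrees `196883` and `842609326` of the Monster are not both degrees of a symmetric group;
* `row_b` : the degrees `4371` and `96255` of the Baby Monster are not both degrees of a symmetric group.
-/

set_option autoImplicit false

namespace Cfsg.Agent.H48.DS

open Cfsg Cfsg.Agent.H704 Cfsg.Agent.H704.DS

universe u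

theorem le_of_isDeg {n d p : ℕ} (hp : p.Prime) (hpd : p ∣ d) (h : IsDeg n d) : p ≤ n := by
  obtain ⟨l, -, h⟩ := h
  have h1 : p ∣ n.factorial := h ▸ hpd.mul_right _
  exact (hp.dvd_factorial).1 h1

theorem isDeg_of {K : Type u} [Group K] {n : ℕ} (hd : SubDeg n K) {d : ℕ}
    (h : ∃ χ : K → ℂ, IsIrrCharacter K χ ∧ χ 1 = (d : ℂ)) : IsDeg n d := by
  obtain ⟨χ, h1, h2⟩ := h
  obtain ⟨e, h3, h4⟩ := hd χ h1
  have h5 : (d : ℂ) = e := by rw [← h2, h4]
  have h6 : d = e := by exact_mod_cast h5
  rwa [h6]

/-- `196883` and `842609326` -/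
theorem no_m {n : ℕ} (h1 : IsDeg n 196883) (h2 : IsDeg n 842609326) : False := by
  have hn : 71 ≤ n := le_of_isDeg (p := 71) (by norm_num) (by norm_num) h1
  rcases level_four (by omega) h1 with h | h | h | h | h | h | h | h
  · omega
  · -- n = 196884
    have hn' : n = 196884 := by omega
    subst hn'
    rcases low_degree (by norm_num) h2 with h | h | h <;> omega
  · have h3 : n ≤ 630 := by
      by_contra hne
      have : 631 * 628 ≤ n * (n - 3) := Nat.mul_le_mul (by omega) (by omega)
      omega
    interval_cases n <;> omega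
  · have h3 : n ≤ 630 := by
      by_contra hne
      have : 630 * 629 ≤ (n - 1) * (n - 2) := Nat.mul_le_mul (by omega) (by omega)
      omega
    interval_cases n <;> omega
  · have h3 : n ≤ 110 := by
      by_contra hne
      have : 111 * 110 * 106 ≤ n * (n - 1) * (n - 5) := Nat.mul_le_mul (Nat.mul_le_mul (by omega) (by omega)) (by omega)
      omega
    interval_cases n <;> omega
  · have h3 : n ≤ 110 := by
      by_contra hne
      have : 111 * 109 * 107 ≤ n * (n - 2) * (n - 4) := Nat.mul_le_mul (Nat.mul_le_mul (by omega) (by omega)) (by omega)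
      omega
    interval_cases n <;> omega
  · have h3 : n ≤ 110 := by
      by_contra hne
      have : 110 * 109 * 108 ≤ (n - 1) * (n - 2) * (n - 3) :=
        Nat.mul_le_mul (Nat.mul_le_mul (by omega) (by omega)) (by omega)
      omega
    interval_cases n <;> omega
  · have : 71 * 70 * 69 * 64 ≤ n * (n - 1) * (n - 2) * (n - 7) :=
      Nat.mul_le_mul (Nat.mul_le_mul (Nat.mul_le_mul (by omega) (by omega)) (by omega)) (by omega)
    omega

/-- `4371` and `96255` -/
theorem no_b {n : ℕ} (h1 : IsDeg n 4371) (h2 : IsDeg n 96255) : False := by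
  have hn : 47 ≤ n := le_of_isDeg (p := 47) (by norm_num) (by norm_num) h1
  rcases level_three (by omega) h1 with h | h | h | h | h
  · omega
  · -- n = 4372
    have hn' : n = 4372 := by omega
    subst hn'
    rcases low_degree (by norm_num) h2 with h | h | h <;> omega
  · have h3 : n ≤ 100 := by
      by_contra hne
      have : 101 * 98 ≤ n * (n - 3) := Nat.mul_le_mul (by omega) (by omega)
      omega
    interval_cases n <;> omega
  · have h3 : n ≤ 100 := by
      by_contra hne
      have : 100 * 99 ≤ (n - 1) * (n - 2) := Nat.mul_le_mul (by omega) (by omega)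
      omega
    have h4 : n = 95 := by interval_cases n <;> omega
    subst h4
    rcases level_three (by norm_num) h2 with h | h | h | h | h <;> omega
  · have : 47 * 46 * 42 ≤ n * (n - 1) * (n - 5) :=
      Nat.mul_le_mul (Nat.mul_le_mul (by omega) (by omega)) (by omega)
    omega

/-- **The Monster.** -/
theorem row_m' {K : Type u} [Group K] (h : Spor.IsoM K) {n : ℕ} (hd : SubDeg n K) : False := by
  refine no_m (isDeg_of hd ?_) (isDeg_of hd ?_)
  · obtain ⟨χ, h1, h2⟩ := H816.IMM.exists_chi_196883 h
    exact ⟨χ, h1, by rw [h2]; norm_num⟩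
  · obtain ⟨χ, h1, h2⟩ := H816.IMM.exists_chi_842609326 h
    exact ⟨χ, h1, by rw [h2]; norm_num⟩

/-- **The Baby Monster.** -/
theorem row_b' {K : Type u} [Group K] [Finite K] (h : Spor.IsoB K) {n : ℕ} (hd : SubDeg n K) : False := by
  refine no_b (isDeg_of hd ?_) (isDeg_of hd ?_)
  · have h0 := h
    obtain ⟨e⟩ := h
    obtain ⟨θ, h1, -, h2⟩ := (H642.Mono.minDeg_b.congr e.symm).ex
    exact ⟨θ, h1, by rw [Blocks.Knorr.charDegree_eq h1, h2]⟩
  · obtain ⟨χ, h1, -⟩ := H995.IMB.deg_b h (d := 96255) (by decide)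
    exact ⟨χ, χ.2, h1⟩

/-- **The Monster**, in the form of the rows of S4906. -/
theorem row_m {K : Type u} [Group K] [Finite K] (h : Spor.IsoM K) (_ : IM K) {n : ℕ} (_ : 5 ≤ n) (hd : SubDeg n K) :
    False := row_m' h hd

/-- **The Baby Monster**, in the form of the rows of S4906. -/
theorem row_b {K : Type u} [Group K] [Finite K] (h : Spor.IsoB K) (_ : IM K) {n : ℕ} (_ : 5 ≤ n) (hd : SubDeg n K) :
    False := row_b' h hd

end Cfsg.Agent.H48.DS
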